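import Mathlib
import Groth.Prelude.Def_W4c5normfunctorschNorm
import Groth.Prelude.Def_SymTen

set_option autoImplicit false

universe u

open scoped TensorProduct

namespace H21.SymTen

variable {R : Type u} [CommRing R] {P : Type u} [AddCommGroup P] [Module R P] {d : ℕ}

/-- The quotient map `P^d → T^d P / altSpan` as an alternating map. -/
noncomputable def qAlt (R : Type u) [CommRing R] (P : Type u) [AddCommGroup P] [Module R P] (d : ℕ) :
    P [⋀^Fin d]→ₗ[R] ((⨂[R] _ : Fin d, P) ⧸ SymTen.altSpan R P d) :=
  { ((SymTen.altSpan R P d).mkQ.compMultilinearMap (PiTensorProduct.tprod R)) with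
    map_eq_zero_of_eq' := by
      intro v i j hij hne
      show (SymTen.altSpan R P d).mkQ (PiTensorProduct.tprod R v) = 0
      rw [Submodule.mkQ_apply, Submodule.Quotient.mk_eq_zero]
      exact Submodule.subset_span ⟨v, i, j, hne, hij, rfl⟩ }

lemma qAlt_apply (v : Fin d → P) :
    qAlt R P d v = (SymTen.altSpan R P d).mkQ (PiTensorProduct.tprod R v) := rfl

/-- An alternating map on a module with a basis indexed by `Fin d` is `det • value at basis`. -/
lemma alt_eq_det_smul {N : Type*} [AddCommGroup N] [Module R N]
    (b : Module.Basis (Fin d) R P) (g : P [⋀^Fin d]→ₗ[R] N) (v : Fin d → P) :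
    g v = b.det v • g b := by
  classical
  have key : g.toMultilinearMap = (b.det.toMultilinearMap).smulRight (g b) := by
    refine Module.Basis.ext_multilinear (fun _ => b) (fun f => ?_)
    show g (fun i => b (f i)) = b.det (fun i => b (f i)) • g b
    by_cases hf : Function.Injective f
    · have hbij : Function.Bijective f := Finite.injective_iff_bijective.mp hf
      obtain ⟨σ, hσ⟩ : ∃ σ : Equiv.Perm (Fin d), ⇑σ = f := ⟨Equiv.ofBijective f hbij, rfl⟩
      have h1 : (fun i => b (f i)) = (⇑b) ∘ ⇑σ := by rw [hσ]; rfl
      rw [h1, AlternatingMap.map_perm, AlternatingMap.map_perm, Module.Basis.det_self, smul_assoc,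
        one_smul]
    · rw [AlternatingMap.map_eq_zero_of_not_injective g _ (fun h => hf ?_),
        AlternatingMap.map_eq_zero_of_not_injective b.det _ (fun h => hf ?_), zero_smul]
      · intro x y hxy
        exact h (by simp only [hxy])
      · intro x y hxy
        exact h (by simp only [hxy])
  have := congrArg (fun m => m v) key
  exact this

/-- The determinant functional on `T^d P` attached to a basis. -/
noncomputable def detFn (b : Module.Basis (Fin d) R P) : (⨂[R] _ : Fin d, P) →ₗ[R] R :=
  PiTensorProduct.lift b.det.toMultilinearMap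

lemma detFn_tprod (b : Module.Basis (Fin d) R P) (v : Fin d → P) :
    detFn b (PiTensorProduct.tprod R v) = b.det v := by
  unfold detFn
  rw [PiTensorProduct.lift.tprod]
  rfl

lemma detFn_basis (b : Module.Basis (Fin d) R P) :
    detFn b (PiTensorProduct.tprod R b) = 1 := by
  rw [detFn_tprod, Module.Basis.det_self]

lemma detFn_altSpan (b : Module.Basis (Fin d) R P) (x : ⨂[R] _ : Fin d, P)
    (hx : x ∈ SymTen.altSpan R P d) : detFn b x = 0 := by
  unfold SymTen.altSpan at hx
  induction hx using Submodule.span_induction with
  | mem x hx =>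
    obtain ⟨p, i, j, hij, hp, rfl⟩ := hx
    rw [detFn_tprod]
    exact b.det.map_eq_zero_of_eq p hp hij
  | zero => simp
  | add x y _ _ hx hy => rw [map_add, hx, hy, add_zero]
  | smul r x _ hx => rw [map_smul, hx, smul_zero]

/-- Lemma A: every tensor is congruent to `det • (basis tensor)` modulo `altSpan`. -/
lemma sub_detFn_smul_mem (b : Module.Basis (Fin d) R P) (x : ⨂[R] _ : Fin d, P) :
    x - detFn b x • PiTensorProduct.tprod R b ∈ SymTen.altSpan R P d := by
  induction x using PiTensorProduct.induction_on with
  | smul_tprod r v =>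
    have h := alt_eq_det_smul b (qAlt R P d) v
    rw [qAlt_apply, qAlt_apply, ← map_smul, ← sub_eq_zero, ← map_sub, Submodule.mkQ_apply,
      Submodule.Quotient.mk_eq_zero] at h
    have h2 : r • PiTensorProduct.tprod R v - detFn b (r • PiTensorProduct.tprod R v) •
        PiTensorProduct.tprod R b = r • (PiTensorProduct.tprod R v - b.det v •
        PiTensorProduct.tprod R b) := by
      rw [map_smul, detFn_tprod, smul_sub, smul_assoc]
    rw [h2]
    exact Submodule.smul_mem _ _ h
  | add x y hx hy =>
    have : x + y - detFn b (x + y) • PiTensorProduct.tprod R b =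
        (x - detFn b x • PiTensorProduct.tprod R b) + (y - detFn b y • PiTensorProduct.tprod R b) := by
      rw [map_add, add_smul]; abel
    rw [this]
    exact Submodule.add_mem _ hx hy

end H21.SymTen
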