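import Mathlib
import Groth.Agent.H21.SymTen.ST1

set_option autoImplicit false

universe u

open scoped TensorProduct

namespace H21.SymTen

variable {R : Type u} [CommRing R] {A : Type u} [CommRing A] [Algebra R A]
  {P : Type u} [AddCommGroup P] [Module R P] [Module A P] [IsScalarTower R A P] {d : ℕ}

lemma tpowAct_tprod (a : Fin d → A) (p : Fin d → P) :
    SymTen.tpowAct R A P d (PiTensorProduct.tprod R a) (PiTensorProduct.tprod R p) =
      PiTensorProduct.tprod R (fun i => a i • p i) := by
  unfold SymTen.tpowAct
  rw [PiTensorProduct.lift.tprod]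
  simp only [MultilinearMap.compLinearMap_apply, PiTensorProduct.mapMultilinear_apply,
    PiTensorProduct.map_tprod]
  rfl

lemma reindex_tpowAct (σ : Equiv.Perm (Fin d)) (t : ⨂[R] _ : Fin d, A) (x : ⨂[R] _ : Fin d, P) :
    PiTensorProduct.reindex R (fun _ : Fin d => P) σ (SymTen.tpowAct R A P d t x) =
      SymTen.tpowAct R A P d (PiTensorProduct.reindex R (fun _ : Fin d => A) σ t)
        (PiTensorProduct.reindex R (fun _ : Fin d => P) σ x) := by
  induction t using PiTensorProduct.induction_on with
  | smul_tprod r a =>
    induction x using PiTensorProduct.induction_on with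
    | smul_tprod s p =>
      simp only [map_smul, LinearMap.smul_apply, tpowAct_tprod, PiTensorProduct.reindex_tprod]
    | add x y hx hy =>
      simp only [map_add, hx, hy]
  | add t t' ht ht' =>
    simp only [map_add, LinearMap.add_apply, ht, ht']


/-- A tensor of a free module fixed by a transposition lies in `altSpan`. -/
lemma mem_altSpan_of_swap_fixed {K : Type*} [Fintype K] [DecidableEq K] (b : Module.Basis K R P)
    (i j : Fin d) (hij : i ≠ j) (y : ⨂[R] _ : Fin d, P)
    (hy : PiTensorProduct.reindex R (fun _ : Fin d => P) (Equiv.swap i j) y = y) :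
    y ∈ SymTen.altSpan R P d := by
  classical
  obtain ⟨B, hB⟩ : ∃ B : Module.Basis (Fin d → K) R (⨂[R] _ : Fin d, P),
      B = Basis.piTensorProduct (fun _ : Fin d => b) := ⟨_, rfl⟩
  have hBf : ∀ f : Fin d → K, B f = PiTensorProduct.tprod R (fun k => b (f k)) := by
    intro f
    rw [hB, Basis.piTensorProduct_apply]
  -- reindexing permutes the basis
  have hre : ∀ f : Fin d → K, PiTensorProduct.reindex R (fun _ : Fin d => P) (Equiv.swap i j) (B f) =
      B (f ∘ Equiv.swap i j) := by
    intro f
    rw [hBf, hBf, PiTensorProduct.reindex_tprod]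
    congr 1
  -- coefficients are invariant
  have hc : ∀ (z : ⨂[R] _ : Fin d, P) (f : Fin d → K),
      B.repr (PiTensorProduct.reindex R (fun _ : Fin d => P) (Equiv.swap i j) z) f =
        B.repr z (f ∘ Equiv.swap i j) := by
    intro z f
    have h1 : (Finsupp.lapply f) ∘ₗ B.repr.toLinearMap ∘ₗ
        (PiTensorProduct.reindex R (fun _ : Fin d => P) (Equiv.swap i j)).toLinearMap =
        (Finsupp.lapply (f ∘ Equiv.swap i j)) ∘ₗ B.repr.toLinearMap := by
      refine B.ext (fun g => ?_)
      simp only [LinearMap.coe_comp, LinearEquiv.coe_coe, Function.comp_apply, Finsupp.lapply_apply]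
      rw [hre, Module.Basis.repr_self, Module.Basis.repr_self, Finsupp.single_apply,
        Finsupp.single_apply]
      refine if_congr ?_ rfl rfl
      constructor
      · intro h
        rw [← h]
        funext k
        simp
      · intro h
        rw [h]
        funext k
        simp
    exact congrArg (fun L => L z) h1
  have hcy : ∀ f : Fin d → K, B.repr y (f ∘ Equiv.swap i j) = B.repr y f := by
    intro f
    rw [← hc, hy]
  -- work in the quotient
  rw [← Submodule.Quotient.mk_eq_zero, ← Submodule.mkQ_apply, ← B.sum_repr y, map_sum]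
  refine Finset.sum_involution (fun f _ => f ∘ Equiv.swap i j) ?_ ?_ ?_ ?_
  · intro f _
    rw [hcy, map_smul, map_smul, ← smul_add, hBf, hBf]
    have h1 : (fun k => b ((f ∘ ⇑(Equiv.swap i j)) k)) = (fun k => b (f k)) ∘ ⇑(Equiv.swap i j) := rfl
    rw [h1, ← qAlt_apply, ← qAlt_apply, AlternatingMap.map_swap _ _ hij, add_neg_cancel, smul_zero]
  · intro f _ hne heq
    apply hne
    have hfij : f i = f j := by
      have := congrFun heq i
      simp at this
      exact this.symm
    rw [map_smul, hBf, ← qAlt_apply,
      AlternatingMap.map_eq_zero_of_eq _ _ (by simp only [hfij]) hij, smul_zero]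
  · intro f _
    exact Finset.mem_univ _
  · intro f _
    funext k
    simp

/-- Lemma B (free case): a symmetric tensor preserves `altSpan`. -/
lemma tpowAct_mem_altSpan_of_free {K : Type*} [Fintype K] [DecidableEq K] (b : Module.Basis K R P)
    (t : ⨂[R] _ : Fin d, A)
    (ht : ∀ σ : Equiv.Perm (Fin d), PiTensorProduct.reindex R (fun _ : Fin d => A) σ t = t)
    (x : ⨂[R] _ : Fin d, P) (hx : x ∈ SymTen.altSpan R P d) :
    SymTen.tpowAct R A P d t x ∈ SymTen.altSpan R P d := by
  unfold SymTen.altSpan at hx
  induction hx using Submodule.span_induction with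
  | mem x hx =>
    obtain ⟨p, i, j, hij, hp, rfl⟩ := hx
    refine mem_altSpan_of_swap_fixed b i j hij _ ?_
    rw [reindex_tpowAct, ht, PiTensorProduct.reindex_tprod]
    congr 2
    funext k
    rw [Equiv.symm_swap]
    by_cases hki : k = i
    · rw [hki, Equiv.swap_apply_left, hp]
    · by_cases hkj : k = j
      · rw [hkj, Equiv.swap_apply_right, hp]
      · rw [Equiv.swap_apply_of_ne_of_ne hki hkj]
  | zero => simp
  | add x y _ _ hx hy => rw [map_add]; exact Submodule.add_mem _ hx hy
  | smul r x _ hx => rw [map_smul]; exact Submodule.smul_mem _ _ hx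

end H21.SymTen
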