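import Mathlib
import Groth.Agent.H21.SymTen.ST2

set_option autoImplicit false

universe u

open scoped TensorProduct

namespace H21.SymTen

variable {R : Type u} [CommRing R] {R' : Type u} [CommRing R'] [Algebra R R'] {d : ℕ}
  {C : Type u} [CommRing C] [Algebra R C]

/-- Uniqueness half of the universal property. -/
lemma algHom_eq_of_postcomp_eq (γ : PolLaw.MulLaw R R' C d) (hγ : PolLaw.IsGammaD γ)
    {C' : Type u} [CommRing C'] [Algebra R C'] (f g : C →ₐ[R] C')
    (h : PolLaw.postcomp f.toLinearMap γ.law = PolLaw.postcomp g.toLinearMap γ.law) : f = g := by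
  obtain ⟨f₀, _, huniq⟩ := hγ C' (PolLaw.MulLaw.postcomp g γ)
  have h1 : f = f₀ := huniq f h
  have h2 : g = f₀ := huniq g rfl
  rw [h1, h2]

lemma postcomp_toFun' {M N Q : Type u} [AddCommGroup M] [Module R M] [AddCommGroup N] [Module R N]
    [AddCommGroup Q] [Module R Q] (g : N →ₗ[R] Q) (F : M →ₚₗ[R] N)
    (S : Type u) [CommSemiring S] [Algebra R S] (z : S ⊗[R] M) :
    (PolLaw.postcomp g F).toFun' S z = g.lTensor S (F.toFun' S z) := rfl

lemma postcomp_comp {M N Q Q' : Type u} [AddCommGroup M] [Module R M] [AddCommGroup N] [Module R N]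
    [AddCommGroup Q] [Module R Q] [AddCommGroup Q'] [Module R Q'] (g' : Q →ₗ[R] Q') (g : N →ₗ[R] Q)
    (F : M →ₚₗ[R] N) :
    PolLaw.postcomp (g' ∘ₗ g) F = PolLaw.postcomp g' (PolLaw.postcomp g F) := by
  ext S _ _ z
  rw [postcomp_toFun', postcomp_toFun', postcomp_toFun', LinearMap.lTensor_comp]
  rfl

/-- `perm σ` after the `j`-th factor inclusion is the `σ j`-th factor inclusion. -/
lemma perm_comp_single (σ : Equiv.Perm (Fin d)) (j : Fin d) :
    (SymTen.perm R R' d σ).comp (PiTensorProduct.singleAlgHom (R := R) (A := fun _ : Fin d => R') j) =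
      PiTensorProduct.singleAlgHom (R := R) (A := fun _ : Fin d => R') (σ j) := by
  ext a
  simp only [AlgHom.comp_apply, PiTensorProduct.singleAlgHom_apply, SymTen.perm_tprod]
  congr 1
  funext k
  by_cases hk : k = σ j
  · subst hk
    simp
  · have : σ.symm k ≠ j := by
      intro h
      apply hk
      rw [← h]
      simp
    simp [MonoidHom.mulSingle_apply, hk, this]

/-- The tensor power law is invariant under permutations. -/
lemma perm_tpowLaw (σ : Equiv.Perm (Fin d)) :
    PolLaw.postcomp (SymTen.perm R R' d σ).toLinearMap (SymTen.tpowLaw R R' d).law =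
      (SymTen.tpowLaw R R' d).law := by
  ext S _ _ z
  rw [postcomp_toFun', PolLaw.lTensor_algHom_apply]
  unfold SymTen.tpowLaw
  rw [PolLaw.MulLaw.prodMap_toFun', map_prod]
  have h1 : ∀ j : Fin d, (Algebra.TensorProduct.map (AlgHom.id S S) (SymTen.perm R R' d σ))
      ((Algebra.TensorProduct.map (AlgHom.id S S)
        (PiTensorProduct.singleAlgHom (R := R) (A := fun _ : Fin d => R') j)) z) =
      (Algebra.TensorProduct.map (AlgHom.id S S)
        (PiTensorProduct.singleAlgHom (R := R) (A := fun _ : Fin d => R') (σ j))) z := by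
    intro j
    rw [← perm_comp_single σ j]
    induction z using TensorProduct.induction_on with
    | zero => simp
    | tmul s a => simp [Algebra.TensorProduct.map_tmul]
    | add x y hx hy => simp only [map_add, hx, hy]
  simp_rw [h1]
  exact Equiv.prod_comp σ (fun j => (Algebra.TensorProduct.map (AlgHom.id S S)
        (PiTensorProduct.singleAlgHom (R := R) (A := fun _ : Fin d => R') j)) z)

/-- (a): the image of `φ` consists of symmetric tensors. -/
lemma phi_symmetric (γ : PolLaw.MulLaw R R' C d) (hγ : PolLaw.IsGammaD γ)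
    (φ : C →ₐ[R] (⨂[R] _ : Fin d, R')) (hφ : PolLaw.MulLaw.postcomp φ γ = SymTen.tpowLaw R R' d)
    (c : C) (σ : Equiv.Perm (Fin d)) :
    PiTensorProduct.reindex R (fun _ : Fin d => R') σ (φ c) = φ c := by
  have hφ' : PolLaw.postcomp φ.toLinearMap γ.law = (SymTen.tpowLaw R R' d).law :=
    congrArg PolLaw.MulLaw.law hφ
  have h : (SymTen.perm R R' d σ).comp φ = φ := by
    apply algHom_eq_of_postcomp_eq γ hγ
    rw [hφ', ← perm_tpowLaw σ, ← hφ', ← postcomp_comp]
    rfl
  rw [← SymTen.perm_apply]
  exact congrArg (fun f => f c) h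

end H21.SymTen
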