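import Mathlib
import Groth.Agent.H21.SymTen.ST3

set_option autoImplicit false

universe u

open scoped TensorProduct

namespace H21.SymTen

/-- Norms are compatible with semilinear ring maps carrying a basis to a basis. -/
lemma norm_map_of_basis {S P BS BP : Type*} [CommRing S] [CommRing P] [CommRing BS] [CommRing BP]
    [Algebra S BS] [Algebra P BP] (ι : S →+* P) (Λ : BS →+* BP)
    (hΛ : ∀ s, Λ (algebraMap S BS s) = algebraMap P BP (ι s))
    {κ : Type*} [Fintype κ] [DecidableEq κ] (β : Module.Basis κ S BS) (β' : Module.Basis κ P BP)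
    (hβ : ∀ j, Λ (β j) = β' j) (z : BS) :
    ι (Algebra.norm S z) = Algebra.norm P (Λ z) := by
  have hsmul : ∀ (s : S) (y : BS), Λ (s • y) = ι s • Λ y := by
    intro s y
    rw [Algebra.smul_def, map_mul, hΛ, Algebra.smul_def]
  have hrepr : ∀ (x : BS) (k : κ), β'.repr (Λ x) k = ι (β.repr x k) := by
    intro x k
    have hx : Λ x = ∑ i, ι (β.repr x i) • β' i := by
      conv_lhs => rw [← β.sum_repr x]
      rw [map_sum]
      refine Finset.sum_congr rfl (fun i _ => ?_)
      rw [hsmul, hβ]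
    rw [hx, Module.Basis.repr_sum_self]
  rw [Algebra.norm_eq_matrix_det β, Algebra.norm_eq_matrix_det β', RingHom.map_det]
  congr 1
  ext k j
  rw [RingHom.mapMatrix_apply, Matrix.map_apply, Algebra.leftMulMatrix_eq_repr_mul,
    Algebra.leftMulMatrix_eq_repr_mul, ← hβ, ← map_mul, hrepr]

section bc

variable {R : Type u} [CommRing R] {Q : Type u} [CommRing Q] [Algebra R Q]
  {X : Type u} [AddCommGroup X] [Module R X]
  {Y : Type u} [AddCommGroup Y] [Module R Y] [Module Q Y] [IsScalarTower R Q Y]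

lemma bcAlong_tmul (g : X →ₗ[R] Y) (P : Type u) [CommRing P] [Algebra R P] [Algebra Q P]
    [IsScalarTower R Q P] (p : P) (x : X) :
    PolLaw.bcAlong g P (p ⊗ₜ[R] x) = p ⊗ₜ[Q] g x := by
  unfold PolLaw.bcAlong
  simp only [LinearMap.coe_comp, Function.comp_apply, LinearMap.coe_restrictScalars,
    LinearEquiv.coe_coe, TensorProduct.AlgebraTensorModule.cancelBaseChange_symm_tmul,
    LinearMap.lTensor_tmul, LinearMap.liftBaseChange_tmul, one_smul]

end bc

section main

variable {R R' Q Q' : Type u} [CommRing R] [CommRing R'] [Algebra R R']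
    [CommRing Q] [Algebra R Q] [CommRing Q'] [Algebra R Q'] [Algebra Q Q'] [Algebra R' Q']
    [IsScalarTower R Q Q'] [IsScalarTower R R' Q']

/-- the comparison map `S ⊗[R] R' → (Q ⊗[R] S) ⊗[Q] Q'` -/
noncomputable def Lam (Q : Type u) [CommRing Q] [Algebra R Q] (Q' : Type u) [CommRing Q']
    [Algebra R Q'] [Algebra Q Q'] [Algebra R' Q'] [IsScalarTower R Q Q'] [IsScalarTower R R' Q']
    (S : Type u) [CommRing S] [Algebra R S] :
    S ⊗[R] R' →ₐ[R] (Q ⊗[R] S) ⊗[Q] Q' :=
  Algebra.TensorProduct.productMap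
    ((Algebra.TensorProduct.includeLeft : (Q ⊗[R] S) →ₐ[R] (Q ⊗[R] S) ⊗[Q] Q').comp
      (Algebra.TensorProduct.includeRight : S →ₐ[R] Q ⊗[R] S))
    (((Algebra.TensorProduct.includeRight : Q' →ₐ[Q] (Q ⊗[R] S) ⊗[Q] Q').restrictScalars R).comp
      (IsScalarTower.toAlgHom R R' Q'))

lemma Lam_tmul (S : Type u) [CommRing S] [Algebra R S] (s : S) (r' : R') :
    Lam Q Q' S (s ⊗ₜ[R] r') = ((1 : Q) ⊗ₜ[R] s) ⊗ₜ[Q] (algebraMap R' Q' r') := by
  unfold Lam
  rw [Algebra.TensorProduct.productMap_apply_tmul]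
  simp [Algebra.TensorProduct.tmul_mul_tmul]

lemma Lam_eq (S : Type u) [CommRing S] [Algebra R S] (z : S ⊗[R] R') :
    Lam Q Q' S z = PolLaw.bcAlong (IsScalarTower.toAlgHom R R' Q').toLinearMap (Q ⊗[R] S)
      ((Algebra.TensorProduct.includeRight : S →ₐ[R] Q ⊗[R] S).toLinearMap.rTensor R' z) := by
  induction z using TensorProduct.induction_on with
  | zero => simp
  | tmul s r' =>
    rw [Lam_tmul, LinearMap.rTensor_tmul, bcAlong_tmul]
    rfl
  | add x y hx hy => simp only [map_add, hx, hy]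

lemma norm_Lam [Algebra.IsPushout R R' Q Q'] {d : ℕ} (b : Module.Basis (Fin d) R R')
    (S : Type u) [CommRing S] [Algebra R S] (z : S ⊗[R] R') :
    (1 : Q) ⊗ₜ[R] (Algebra.norm S z) = Algebra.norm (Q ⊗[R] S) (Lam Q Q' S z) := by
  have hpo : Algebra.IsPushout R Q R' Q' := Algebra.IsPushout.symm inferInstance
  obtain ⟨bQ, hbQ⟩ : ∃ bQ : Module.Basis (Fin d) Q Q', ∀ j, bQ j = algebraMap R' Q' (b j) :=
    ⟨hpo.out.basis b, fun j => by rw [IsBaseChange.basis_apply]; rfl⟩
  have h := norm_map_of_basis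
    ((Algebra.TensorProduct.includeRight : S →ₐ[R] Q ⊗[R] S) : S →+* Q ⊗[R] S)
    ((Lam Q Q' S : S ⊗[R] R' →ₐ[R] (Q ⊗[R] S) ⊗[Q] Q') : S ⊗[R] R' →+* (Q ⊗[R] S) ⊗[Q] Q')
    ?_ (b.baseChange S) (bQ.baseChange (Q ⊗[R] S)) ?_ z
  · exact h
  · intro s
    rw [Algebra.TensorProduct.algebraMap_apply, Algebra.TensorProduct.algebraMap_apply]
    simp only [Algebra.algebraMap_self, RingHom.id_apply, RingHom.coe_coe, Lam_tmul, map_one,
      Algebra.TensorProduct.includeRight_apply]
  · intro j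
    rw [Module.Basis.baseChange_apply, Module.Basis.baseChange_apply, hbQ]
    simp only [RingHom.coe_coe, Lam_tmul]
    rfl

end main

end H21.SymTen
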