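import Mathlib
import Groth.Agent.H21.SymTen.ST10

set_option autoImplicit false

universe u

open scoped TensorProduct

namespace H21.SymTen

variable {R R' Q Q' : Type u} [CommRing R] [CommRing R'] [Algebra R R']
    [CommRing Q] [Algebra R Q] [CommRing Q'] [Algebra R Q'] [Algebra Q Q'] [Algebra R' Q']
    [IsScalarTower R Q Q'] [IsScalarTower R R' Q']

/-- Claim A: transport from `S ⊗[R] -` to `(Q ⊗[R] S) ⊗[Q] -`. -/
lemma claimA {C : Type u} [CommRing C] [Algebra R C]
    {C' : Type u} [CommRing C'] [Algebra R C'] [Algebra Q C'] [IsScalarTower R Q C']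
    (π' : C' →ₐ[Q] Q) (θ : C →ₐ[R] C') (S : Type u) [CommRing S] [Algebra R S] (u : S ⊗[R] C) :
    TensorProduct.comm R S Q
        ((((π'.restrictScalars R).comp θ).toLinearMap).lTensor S u) =
      TensorProduct.rid Q (Q ⊗[R] S)
        ((π'.toLinearMap.lTensor (Q ⊗[R] S))
          (PolLaw.bcAlong θ.toLinearMap (Q ⊗[R] S)
            ((Algebra.TensorProduct.includeRight : S →ₐ[R] Q ⊗[R] S).toLinearMap.rTensor C u))) := by
  induction u using TensorProduct.induction_on with
  | zero => simp
  | tmul s c =>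
    rw [LinearMap.rTensor_tmul, bcAlong_tmul, LinearMap.lTensor_tmul, LinearMap.lTensor_tmul,
      TensorProduct.comm_tmul, TensorProduct.rid_tmul]
    simp only [AlgHom.toLinearMap_apply, AlgHom.comp_apply, AlgHom.restrictScalars_apply,
      Algebra.TensorProduct.includeRight_apply, TensorProduct.smul_tmul', smul_eq_mul, mul_one]
  | add x y hx hy => simp only [map_add, hx, hy]

theorem main_bc [Algebra.IsPushout R R' Q Q']
    [Module.Free R R'] [Module.Finite R R'] [Module.Free Q Q'] [Module.Finite Q Q']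
    (d : ℕ) (hd : Module.finrank R R' = d) (hd' : Module.finrank Q Q' = d)
    {C : Type u} [CommRing C] [Algebra R C] (γ : PolLaw.MulLaw R R' C d) (hγ : PolLaw.IsGammaD γ)
    (π : C →ₐ[R] R) (hπ : PolLaw.MulLaw.postcomp π γ = PolLaw.normLaw R R' d hd)
    {C' : Type u} [CommRing C'] [Algebra R C'] [Algebra Q C'] [IsScalarTower R Q C']
    (γ' : PolLaw.MulLaw Q Q' C' d)
    (π' : C' →ₐ[Q] Q) (hπ' : PolLaw.MulLaw.postcomp π' γ' = PolLaw.normLaw Q Q' d hd')
    (θ : C →ₐ[R] C')
    (hθ : ∀ (P : Type u) [CommRing P] [Algebra R P] [Algebra Q P] [IsScalarTower R Q P] (z : P ⊗[R] R'),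
      γ'.law.toFun' P (PolLaw.bcAlong (IsScalarTower.toAlgHom R R' Q').toLinearMap P z) =
        PolLaw.bcAlong θ.toLinearMap P (γ.law.toFun' P z)) :
    ∀ c : C, π' (θ c) = algebraMap R Q (π c) := by
  rcases subsingleton_or_nontrivial R with hR | hR
  · haveI : Subsingleton Q := Module.subsingleton R Q
    exact fun c => Subsingleton.elim _ _
  have b : Module.Basis (Fin d) R R' := (Module.finBasis R R').reindex (finCongr hd)
  have hπ1 : PolLaw.postcomp π.toLinearMap γ.law = (PolLaw.normLaw R R' d hd).law :=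
    congrArg PolLaw.MulLaw.law hπ
  have hπ2 : PolLaw.postcomp π'.toLinearMap γ'.law = (PolLaw.normLaw Q Q' d hd').law :=
    congrArg PolLaw.MulLaw.law hπ'
  have hf : (π'.restrictScalars R).comp θ = (Algebra.ofId R Q).comp π := by
    apply algHom_eq_of_postcomp_eq γ hγ
    ext S _ _ z
    obtain ⟨n, ψ', p, rfl⟩ := PolynomialLaw.exists_lift z
    rw [← PolynomialLaw.isCompat_apply', ← PolynomialLaw.isCompat_apply']
    congr 1
    rw [postcomp_toFun', postcomp_toFun']
    apply (TensorProduct.comm R (MvPolynomial (Fin n) R) Q).injective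
    -- right side
    have hRs : TensorProduct.comm R (MvPolynomial (Fin n) R) Q
        ((((Algebra.ofId R Q).comp π).toLinearMap).lTensor (MvPolynomial (Fin n) R)
          (γ.law.toFun' (MvPolynomial (Fin n) R) p)) =
        (1 : Q) ⊗ₜ[R] Algebra.norm (MvPolynomial (Fin n) R) p := by
      have h1 : ((Algebra.ofId R Q).comp π).toLinearMap =
          (Algebra.ofId R Q).toLinearMap ∘ₗ π.toLinearMap := rfl
      rw [h1, LinearMap.lTensor_comp, LinearMap.comp_apply, ← postcomp_toFun', hπ1,
        PolLaw.normLaw_apply, LinearMap.lTensor_tmul, TensorProduct.comm_tmul]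
      simp
    -- left side
    have hLs : TensorProduct.comm R (MvPolynomial (Fin n) R) Q
        ((((π'.restrictScalars R).comp θ).toLinearMap).lTensor (MvPolynomial (Fin n) R)
          (γ.law.toFun' (MvPolynomial (Fin n) R) p)) =
        Algebra.norm (Q ⊗[R] MvPolynomial (Fin n) R) (Lam Q Q' (MvPolynomial (Fin n) R) p) := by
      rw [claimA, PolynomialLaw.isCompat_apply', ← hθ, ← Lam_eq, ← postcomp_toFun', hπ2,
        PolLaw.normLaw_apply, TensorProduct.rid_tmul, one_smul]
    rw [hLs, hRs, norm_Lam (Q' := Q') b]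
  intro c
  exact congrArg (fun f => f c) hf

end H21.SymTen
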