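import Mathlib
import Groth.Agent.H21.SymTen.ST3

set_option autoImplicit false

universe u

open scoped TensorProduct

namespace H21.SymTen

variable {R : Type u} [CommRing R] {R' : Type u} [CommRing R'] [Algebra R R'] {d : ℕ}

/-- `t ↦ Δ (t * e)` where `e` is the basis tensor. -/
noncomputable def psiLin (b : Module.Basis (Fin d) R R') : (⨂[R] _ : Fin d, R') →ₗ[R] R :=
  detFn b ∘ₗ LinearMap.mulRight R (PiTensorProduct.tprod R b)

lemma psiLin_apply (b : Module.Basis (Fin d) R R') (t : ⨂[R] _ : Fin d, R') :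
    psiLin b t = detFn b (t * PiTensorProduct.tprod R b) := rfl

lemma prod_single (a : Fin d → R') :
    ∏ j, PiTensorProduct.singleAlgHom (R := R) (A := fun _ : Fin d => R') j (a j) =
      PiTensorProduct.tprod R a := by
  simp only [PiTensorProduct.singleAlgHom_apply, MonoidHom.mulSingle_apply]
  rw [← PiTensorProduct.tprod_prod]
  exact congrArg _ (Finset.univ_prod_mulSingle a)

lemma det_baseChange_tmul (b : Module.Basis (Fin d) R R') (S : Type u) [CommRing S] [Algebra R S]
    (v : Fin d → R') :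
    (b.baseChange S).det (fun j => (1 : S) ⊗ₜ[R] v j) = algebraMap R S (b.det v) := by
  rw [Module.Basis.det_apply, Module.Basis.det_apply, RingHom.map_det]
  congr 1
  ext i j
  simp [Module.Basis.toMatrix_apply, Module.Basis.baseChange_repr_tmul, Algebra.smul_def]

lemma core (b : Module.Basis (Fin d) R R') (S : Type u) [CommRing S] [Algebra R S]
    (z : S ⊗[R] R') :
    (psiLin b).lTensor S ((SymTen.tpowLaw R R' d).law.toFun' S z) =
      Algebra.norm S z ⊗ₜ[R] (1 : R) := by
  classical
  obtain ⟨G, hG⟩ : ∃ G : Fin d → (S ⊗[R] R' →ₐ[S] S ⊗[R] (⨂[R] _ : Fin d, R')),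
      G = fun j => Algebra.TensorProduct.map (AlgHom.id S S)
        (PiTensorProduct.singleAlgHom (R := R) (A := fun _ : Fin d => R') j) := ⟨_, rfl⟩
  obtain ⟨L, hL⟩ : ∃ L : S ⊗[R] (⨂[R] _ : Fin d, R') →ₗ[S] S ⊗[R] R,
      L = (psiLin b).baseChange S := ⟨_, rfl⟩
  obtain ⟨B, hB⟩ : ∃ B : Module.Basis (Fin d) S (S ⊗[R] R'), B = b.baseChange S := ⟨_, rfl⟩
  obtain ⟨Φ, hΦ⟩ : ∃ Φ : MultilinearMap S (fun _ : Fin d => S ⊗[R] R') (S ⊗[R] R),
      Φ = L.compMultilinearMap ((MultilinearMap.mkPiAlgebra S (Fin d)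
        (S ⊗[R] (⨂[R] _ : Fin d, R'))).compLinearMap (fun j => (G j).toLinearMap)) := ⟨_, rfl⟩
  obtain ⟨Ψ, hΨ⟩ : ∃ Ψ : MultilinearMap S (fun _ : Fin d => S ⊗[R] R') (S ⊗[R] R),
      Ψ = ((TensorProduct.AlgebraTensorModule.rid R S S).symm.toLinearMap).compMultilinearMap
        (B.det.toMultilinearMap.compLinearMap (fun j => LinearMap.mulRight S (B j))) := ⟨_, rfl⟩
  have key : Φ = Ψ := by
    refine Module.Basis.ext_multilinear (fun _ => B) (fun f => ?_)
    rw [hΦ, hΨ]
    simp only [LinearMap.compMultilinearMap_apply, MultilinearMap.compLinearMap_apply,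
      MultilinearMap.mkPiAlgebra_apply, AlgHom.toLinearMap_apply, LinearEquiv.coe_coe,
      TensorProduct.AlgebraTensorModule.rid_symm_apply, LinearMap.mulRight_apply,
      AlternatingMap.coe_multilinearMap]
    have hBf : ∀ j, B j = (1 : S) ⊗ₜ[R] b j := by
      intro j; rw [hB, Module.Basis.baseChange_apply]
    have h1 : ∀ j, G j (B (f j)) = Algebra.TensorProduct.includeRight
        (PiTensorProduct.singleAlgHom (R := R) (A := fun _ : Fin d => R') j (b (f j))) := by
      intro j
      rw [hG, hBf]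
      simp [Algebra.TensorProduct.map_tmul]
    simp_rw [h1]
    rw [← map_prod, prod_single, Algebra.TensorProduct.includeRight_apply, hL,
      LinearMap.baseChange_tmul, psiLin_apply, PiTensorProduct.tprod_mul_tprod, detFn_tprod]
    have h2 : (fun j => B (f j) * B j) = fun j => (1 : S) ⊗ₜ[R] (b (f j) * b j) := by
      funext j
      rw [hBf, hBf, Algebra.TensorProduct.tmul_mul_tmul, mul_one]
    rw [h2, hB, det_baseChange_tmul, Algebra.algebraMap_eq_smul_one, TensorProduct.smul_tmul,
      smul_eq_mul, mul_one]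
    rfl
  have hz := congrArg (fun m => m (fun _ => z)) key
  rw [hΦ, hΨ] at hz
  simp only [LinearMap.compMultilinearMap_apply, MultilinearMap.compLinearMap_apply,
      MultilinearMap.mkPiAlgebra_apply, AlgHom.toLinearMap_apply, LinearEquiv.coe_coe,
      TensorProduct.AlgebraTensorModule.rid_symm_apply, LinearMap.mulRight_apply,
      AlternatingMap.coe_multilinearMap] at hz
  have hnorm : B.det (fun j => z * B j) = Algebra.norm S z := by
    rw [Algebra.norm_apply]
    have := Module.Basis.det_comp B (Algebra.lmul S (S ⊗[R] R') z) B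
    rw [Module.Basis.det_self, mul_one] at this
    rw [← this]
    rfl
  rw [hnorm, hL, hG] at hz
  rw [← hz, ← LinearMap.baseChange_eq_ltensor]
  rfl

end H21.SymTen
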