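import Mathlib
import Groth.Agent.H21.SymTen.ST4

set_option autoImplicit false

universe u

open scoped TensorProduct

namespace H21.SymTen

variable {R : Type u} [CommRing R] {R' : Type u} [CommRing R'] [Algebra R R'] {d : ℕ}
  {C : Type u} [CommRing C] [Algebra R C]

lemma tpowAct_self (t x : ⨂[R] _ : Fin d, R') :
    SymTen.tpowAct R R' R' d t x = t * x := by
  induction t using PiTensorProduct.induction_on with
  | smul_tprod r a =>
    induction x using PiTensorProduct.induction_on with
    | smul_tprod s p =>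
      simp only [map_smul, LinearMap.smul_apply, tpowAct_tprod, smul_eq_mul, smul_mul_assoc,
        mul_smul_comm, PiTensorProduct.tprod_mul_tprod]
      rfl
    | add x y hx hy =>
      simp only [map_add, hx, hy, mul_add]
  | add t t' ht ht' =>
    simp only [map_add, LinearMap.add_apply, ht, ht', add_mul]

/-- symmetric tensors preserve altSpan (multiplicative form). -/
lemma mul_mem_altSpan (b : Module.Basis (Fin d) R R') (t : ⨂[R] _ : Fin d, R')
    (ht : ∀ σ : Equiv.Perm (Fin d), PiTensorProduct.reindex R (fun _ : Fin d => R') σ t = t)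
    (x : ⨂[R] _ : Fin d, R') (hx : x ∈ SymTen.altSpan R R' d) :
    t * x ∈ SymTen.altSpan R R' d := by
  rw [← tpowAct_self]
  exact tpowAct_mem_altSpan_of_free b t ht x hx

/-- Key congruence: for symmetric `t`, `t * x ≡ psiLin b t • x` modulo `altSpan`. -/
lemma mul_sub_psi_smul_mem (b : Module.Basis (Fin d) R R') (t : ⨂[R] _ : Fin d, R')
    (ht : ∀ σ : Equiv.Perm (Fin d), PiTensorProduct.reindex R (fun _ : Fin d => R') σ t = t)
    (x : ⨂[R] _ : Fin d, R') :
    t * x - psiLin b t • x ∈ SymTen.altSpan R R' d := by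
  obtain ⟨e, he⟩ : ∃ e : ⨂[R] _ : Fin d, R', e = PiTensorProduct.tprod R b := ⟨_, rfl⟩
  have hx := sub_detFn_smul_mem b x
  have hte := sub_detFn_smul_mem b (t * e)
  rw [← he] at hx hte
  have h1 := mul_mem_altSpan b t ht _ hx
  have h2 := Submodule.smul_mem _ (detFn b x) hte
  have h3 := Submodule.smul_mem _ (psiLin b t) hx
  have hpsi : psiLin b t = detFn b (t * e) := by rw [psiLin_apply, he]
  have : t * x - psiLin b t • x = t * (x - detFn b x • e) +
      detFn b x • (t * e - detFn b (t * e) • e) - psiLin b t • (x - detFn b x • e) := by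
    rw [hpsi, mul_sub, mul_smul_comm, smul_sub, smul_sub, smul_smul, smul_smul,
      mul_comm (detFn b x)]
    abel
  rw [this]
  exact Submodule.sub_mem _ (Submodule.add_mem _ h1 h2) h3

/-- `psiLin` is multiplicative on symmetric tensors. -/
lemma psiLin_mul (b : Module.Basis (Fin d) R R') (t t' : ⨂[R] _ : Fin d, R')
    (ht : ∀ σ : Equiv.Perm (Fin d), PiTensorProduct.reindex R (fun _ : Fin d => R') σ t = t) :
    psiLin b (t * t') = psiLin b t * psiLin b t' := by
  have h := mul_sub_psi_smul_mem b t ht (t' * PiTensorProduct.tprod R b)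
  have h2 := detFn_altSpan b _ h
  rw [map_sub, map_smul, sub_eq_zero, smul_eq_mul, ← mul_assoc] at h2
  rw [psiLin_apply, psiLin_apply, h2]
  rfl

lemma psiLin_one (b : Module.Basis (Fin d) R R') : psiLin b 1 = 1 := by
  rw [psiLin_apply, one_mul, detFn_basis]

/-- The algebra map `C → R`, `c ↦ Δ(φ c * e)`. -/
noncomputable def psiAlg (b : Module.Basis (Fin d) R R') (φ : C →ₐ[R] (⨂[R] _ : Fin d, R'))
    (hsym : ∀ (c : C) (σ : Equiv.Perm (Fin d)),
      PiTensorProduct.reindex R (fun _ : Fin d => R') σ (φ c) = φ c) : C →ₐ[R] R :=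
  AlgHom.ofLinearMap (psiLin b ∘ₗ φ.toLinearMap)
    (by
      show psiLin b (φ 1) = 1
      rw [map_one, psiLin_one])
    (by
      intro x y
      show psiLin b (φ (x * y)) = psiLin b (φ x) * psiLin b (φ y)
      rw [map_mul, psiLin_mul b _ _ (hsym x)])

lemma psiAlg_apply (b : Module.Basis (Fin d) R R') (φ : C →ₐ[R] (⨂[R] _ : Fin d, R'))
    (hsym : ∀ (c : C) (σ : Equiv.Perm (Fin d)),
      PiTensorProduct.reindex R (fun _ : Fin d => R') σ (φ c) = φ c) (c : C) :
    psiAlg b φ hsym c = psiLin b (φ c) := rfl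

lemma psiAlg_toLinearMap (b : Module.Basis (Fin d) R R') (φ : C →ₐ[R] (⨂[R] _ : Fin d, R'))
    (hsym : ∀ (c : C) (σ : Equiv.Perm (Fin d)),
      PiTensorProduct.reindex R (fun _ : Fin d => R') σ (φ c) = φ c) :
    (psiAlg b φ hsym).toLinearMap = psiLin b ∘ₗ φ.toLinearMap := rfl

end H21.SymTen
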