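import Mathlib
import Groth.Agent.H21.SymTen.ST5

set_option autoImplicit false

universe u

open scoped TensorProduct

namespace H21.SymTen

variable {R : Type u} [CommRing R] {R' : Type u} [CommRing R'] [Algebra R R'] {d : ℕ}
  {C : Type u} [CommRing C] [Algebra R C]

lemma postcomp_psiLin_tpowLaw [Module.Free R R'] [Module.Finite R R']
    (hd : Module.finrank R R' = d) (b : Module.Basis (Fin d) R R') :
    PolLaw.postcomp (psiLin b) (SymTen.tpowLaw R R' d).law = (PolLaw.normLaw R R' d hd).law := by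
  ext S _ _ z
  obtain ⟨n, ψ', p, rfl⟩ := PolynomialLaw.exists_lift z
  rw [← PolynomialLaw.isCompat_apply', ← PolynomialLaw.isCompat_apply']
  congr 1
  rw [postcomp_toFun', core b (MvPolynomial (Fin n) R) p, PolLaw.normLaw_apply]

theorem main [Module.Free R R'] [Module.Finite R R'] (hd : Module.finrank R R' = d)
    (γ : PolLaw.MulLaw R R' C d) (hγ : PolLaw.IsGammaD γ)
    (φ : C →ₐ[R] (⨂[R] _ : Fin d, R')) (hφ : PolLaw.MulLaw.postcomp φ γ = SymTen.tpowLaw R R' d)
    (π : C →ₐ[R] R) (hπ : PolLaw.MulLaw.postcomp π γ = PolLaw.normLaw R R' d hd)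
    (c : C) (x : ⨂[R] _ : Fin d, R') :
    SymTen.tpowAct R R' R' d (φ c) x - π c • x ∈ SymTen.altSpan R R' d := by
  rcases subsingleton_or_nontrivial R with hR | hR
  · haveI : Subsingleton (⨂[R] _ : Fin d, R') := Module.subsingleton R _
    rw [Subsingleton.elim (SymTen.tpowAct R R' R' d (φ c) x - π c • x) 0]
    exact Submodule.zero_mem _
  have b : Module.Basis (Fin d) R R' := (Module.finBasis R R').reindex (finCongr hd)
  have hsym := phi_symmetric γ hγ φ hφ
  have hφ' : PolLaw.postcomp φ.toLinearMap γ.law = (SymTen.tpowLaw R R' d).law :=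
    congrArg PolLaw.MulLaw.law hφ
  have hπ' : PolLaw.postcomp π.toLinearMap γ.law = (PolLaw.normLaw R R' d hd).law :=
    congrArg PolLaw.MulLaw.law hπ
  have hψπ : psiAlg b φ hsym = π := by
    apply algHom_eq_of_postcomp_eq γ hγ
    rw [hπ', psiAlg_toLinearMap, postcomp_comp, hφ', postcomp_psiLin_tpowLaw hd b]
  have h := mul_sub_psi_smul_mem b (φ c) (hsym c) x
  rw [tpowAct_self, ← hψπ, psiAlg_apply]
  exact h

end H21.SymTen
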