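import Mathlib
import Groth.Agent.H21.SymTen.ST2

set_option autoImplicit false

universe u

open scoped TensorProduct

namespace H21.SymTen

variable {R : Type u} [CommRing R] {A : Type u} [CommRing A] [Algebra R A]
  {P : Type u} [AddCommGroup P] [Module R P] [Module A P] [IsScalarTower R A P] {d : ℕ}

lemma map_mem_altSpan {P' : Type u} [AddCommGroup P'] [Module R P'] (f : P →ₗ[R] P')
    (x : ⨂[R] _ : Fin d, P) (hx : x ∈ SymTen.altSpan R P d) :
    PiTensorProduct.map (fun _ : Fin d => f) x ∈ SymTen.altSpan R P' d := by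
  unfold SymTen.altSpan at hx
  induction hx using Submodule.span_induction with
  | mem x hx =>
    obtain ⟨p, i, j, hij, hp, rfl⟩ := hx
    rw [PiTensorProduct.map_tprod]
    exact Submodule.subset_span ⟨fun k => f (p k), i, j, hij, by simp only [hp], rfl⟩
  | zero => simp
  | add x y _ _ hx hy => rw [map_add]; exact Submodule.add_mem _ hx hy
  | smul r x _ hx => rw [map_smul]; exact Submodule.smul_mem _ _ hx

/-- A tensor of a finite projective module fixed by a transposition lies in `altSpan`. -/
lemma mem_altSpan_of_swap_fixed_proj [Module.Finite R P] [Module.Projective R P]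
    (i j : Fin d) (hij : i ≠ j) (y : ⨂[R] _ : Fin d, P)
    (hy : PiTensorProduct.reindex R (fun _ : Fin d => P) (Equiv.swap i j) y = y) :
    y ∈ SymTen.altSpan R P d := by
  obtain ⟨n, f, g, _, _, hfg⟩ := Module.Finite.exists_comp_eq_id_of_projective R P
  -- work with a free module in the same universe
  obtain ⟨F, hF⟩ : ∃ F : Type u, F = ULift.{u} (Fin n → R) := ⟨_, rfl⟩
  subst hF
  obtain ⟨f', hf'⟩ : ∃ f' : ULift.{u} (Fin n → R) →ₗ[R] P, f' = f ∘ₗ ULift.moduleEquiv.toLinearMap :=
    ⟨_, rfl⟩
  obtain ⟨g', hg'⟩ : ∃ g' : P →ₗ[R] ULift.{u} (Fin n → R),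
      g' = ULift.moduleEquiv.symm.toLinearMap ∘ₗ g := ⟨_, rfl⟩
  have hfg' : f' ∘ₗ g' = LinearMap.id := by
    rw [hf', hg']
    ext p
    simp only [LinearMap.coe_comp, LinearEquiv.coe_coe, Function.comp_apply,
      LinearEquiv.apply_symm_apply, LinearMap.id_coe, id_eq]
    exact congrArg (fun L => L p) hfg
  have b : Module.Basis (Fin n) R (ULift.{u} (Fin n → R)) :=
    (Pi.basisFun R (Fin n)).map ULift.moduleEquiv.symm
  have h1 : PiTensorProduct.reindex R (fun _ : Fin d => ULift.{u} (Fin n → R)) (Equiv.swap i j)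
      (PiTensorProduct.map (fun _ : Fin d => g') y) = PiTensorProduct.map (fun _ : Fin d => g') y := by
    rw [← PiTensorProduct.map_reindex, hy]
  have h2 := mem_altSpan_of_swap_fixed b i j hij _ h1
  have h3 := map_mem_altSpan f' _ h2
  rw [← LinearMap.comp_apply, ← PiTensorProduct.map_comp] at h3
  have h4 : (fun _ : Fin d => f' ∘ₗ g') = fun _ : Fin d => (LinearMap.id : P →ₗ[R] P) := by
    funext _; exact hfg'
  rw [h4, PiTensorProduct.map_id] at h3
  exact h3

/-- Lemma B (projective case): a symmetric tensor preserves `altSpan`. -/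
lemma tpowAct_mem_altSpan_of_proj [Module.Finite R P] [Module.Projective R P]
    (t : ⨂[R] _ : Fin d, A)
    (ht : ∀ σ : Equiv.Perm (Fin d), PiTensorProduct.reindex R (fun _ : Fin d => A) σ t = t)
    (x : ⨂[R] _ : Fin d, P) (hx : x ∈ SymTen.altSpan R P d) :
    SymTen.tpowAct R A P d t x ∈ SymTen.altSpan R P d := by
  unfold SymTen.altSpan at hx
  induction hx using Submodule.span_induction with
  | mem x hx =>
    obtain ⟨p, i, j, hij, hp, rfl⟩ := hx
    refine mem_altSpan_of_swap_fixed_proj i j hij _ ?_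
    rw [reindex_tpowAct, ht, PiTensorProduct.reindex_tprod]
    congr 2
    funext k
    rw [Equiv.symm_swap]
    by_cases hki : k = i
    · rw [hki, Equiv.swap_apply_left, hp]
    · by_cases hkj : k = j
      · rw [hkj, Equiv.swap_apply_right, hp]
      · rw [Equiv.swap_apply_of_ne_of_ne hki hkj]
  | zero => simp
  | add x y _ _ hx hy => rw [map_add]; exact Submodule.add_mem _ hx hy
  | smul r x _ hx => rw [map_smul]; exact Submodule.smul_mem _ _ hx

end H21.SymTen
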