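import Mathlib

set_option autoImplicit false

open Finset

namespace H21.SymTen

/-- inclusion–exclusion over supersets of a given set -/
lemma sum_superset_neg_one_pow {n : ℕ} (X : Finset (Fin n)) :
    ∑ I : Finset (Fin n), (if X ⊆ I then (-1 : ℤ) ^ (#Iᶜ) else 0) = if X = univ then 1 else 0 := by
  classical
  have h1 : ∑ I : Finset (Fin n), (if X ⊆ I then (-1 : ℤ) ^ (#Iᶜ) else 0) =
      ∑ J : Finset (Fin n), (if J ⊆ Xᶜ then (-1 : ℤ) ^ (#J) else 0) := by
    refine Fintype.sum_equiv (Function.Involutive.toPerm compl compl_involutive) _ _ (fun I => ?_)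
    simp only [Function.Involutive.coe_toPerm]
    refine if_congr ?_ rfl rfl
    rw [Finset.compl_subset_compl]
  rw [h1, ← Finset.sum_filter]
  have h2 : (univ : Finset (Finset (Fin n))).filter (fun J => J ⊆ Xᶜ) = (Xᶜ).powerset := by
    ext J
    simp
  rw [h2, Finset.sum_powerset_neg_one_pow_card]
  refine if_congr ?_ rfl rfl
  rw [Finset.compl_eq_empty_iff]

/-- Polarization: the symmetrization of a multilinear map is an alternating sum of its values
on diagonal vectors. -/
lemma polarization {A : Type*} [CommRing A] {M N : Type*} [AddCommGroup M] [Module A M]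
    [AddCommGroup N] [Module A N] {n : ℕ} (f : MultilinearMap A (fun _ : Fin n => M) N)
    (a : Fin n → M) :
    ∑ I : Finset (Fin n), ((-1 : ℤ) ^ (#Iᶜ)) • f (fun _ => ∑ i ∈ I, a i) =
      ∑ σ : Equiv.Perm (Fin n), f (fun k => a (σ k)) := by
  classical
  have h1 : ∀ I : Finset (Fin n), f (fun _ => ∑ i ∈ I, a i) =
      ∑ r : Fin n → Fin n, if (∀ k, r k ∈ I) then f (fun k => a (r k)) else 0 := by
    intro I
    rw [f.map_sum_finset (fun _ i => a i) (fun _ => I), ← Finset.sum_filter]
    refine Finset.sum_congr ?_ (fun _ _ => rfl)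
    ext r
    simp [Fintype.mem_piFinset]
  simp_rw [h1, Finset.smul_sum]
  rw [Finset.sum_comm]
  have h2 : ∀ r : Fin n → Fin n,
      ∑ I : Finset (Fin n), ((-1 : ℤ) ^ (#Iᶜ)) • (if (∀ k, r k ∈ I) then f (fun k => a (r k)) else 0) =
      if Function.Bijective r then f (fun k => a (r k)) else 0 := by
    intro r
    have h3 : ∀ I : Finset (Fin n),
        ((-1 : ℤ) ^ (#Iᶜ)) • (if (∀ k, r k ∈ I) then f (fun k => a (r k)) else 0) =
        (if (univ.image r) ⊆ I then (-1 : ℤ) ^ (#Iᶜ) else 0) • f (fun k => a (r k)) := by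
      intro I
      have hiff : (∀ k, r k ∈ I) ↔ (univ.image r) ⊆ I := by
        constructor
        · intro h x hx
          obtain ⟨k, _, rfl⟩ := Finset.mem_image.mp hx
          exact h k
        · intro h k
          exact h (Finset.mem_image_of_mem r (Finset.mem_univ k))
      by_cases hc : ∀ k, r k ∈ I
      · rw [if_pos hc, if_pos (hiff.mp hc)]
      · rw [if_neg hc, if_neg (fun h => hc (hiff.mpr h)), smul_zero, zero_smul]
    simp_rw [h3]
    rw [← Finset.sum_smul, sum_superset_neg_one_pow]
    have hsurj : (univ.image r = univ) ↔ Function.Bijective r := by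
      constructor
      · intro h
        refine Finite.surjective_iff_bijective.mp (fun y => ?_)
        have hy : y ∈ univ.image r := by rw [h]; exact Finset.mem_univ y
        obtain ⟨k, _, hk⟩ := Finset.mem_image.mp hy
        exact ⟨k, hk⟩
      · intro h
        exact Finset.image_univ_of_surjective h.surjective
    by_cases hb : Function.Bijective r
    · rw [if_pos hb, if_pos (hsurj.mpr hb), one_smul]
    · rw [if_neg hb, if_neg (fun h => hb (hsurj.mp h)), zero_smul]
  simp_rw [h2]
  rw [← Finset.sum_filter]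
  symm
  refine Finset.sum_bij (fun σ _ => ⇑σ) ?_ ?_ ?_ ?_
  · intro σ _
    simp only [Finset.mem_filter, Finset.mem_univ, true_and]
    exact σ.bijective
  · intro σ _ τ _ h
    exact DFunLike.coe_injective h
  · intro r hr
    simp only [Finset.mem_filter, Finset.mem_univ, true_and] at hr
    exact ⟨Equiv.ofBijective r hr, Finset.mem_univ _, rfl⟩
  · intro σ _
    rfl

end H21.SymTen
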