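import Mathlib
import Groth.Agent.H21.SymTen.ST6
import Groth.Agent.H21.SymTen.ST8

set_option autoImplicit false

universe u

open scoped TensorProduct

namespace H21.SymTen

variable {R : Type u} [CommRing R] {R' : Type u} [CommRing R'] [Algebra R R'] {d : ℕ}

/-- The span of the diagonal tensors `r ⊗ ⋯ ⊗ r`. -/
noncomputable def diagSpan (R : Type u) [CommRing R] (R' : Type u) [CommRing R'] [Algebra R R']
    (d : ℕ) : Submodule R (⨂[R] _ : Fin d, R') :=
  Submodule.span R (Set.range fun r : R' => PiTensorProduct.tprod R (fun _ : Fin d => r))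

lemma symmetrize_tprod_mem (a : Fin d → R') :
    ∑ σ : Equiv.Perm (Fin d), PiTensorProduct.tprod R (fun k => a (σ k)) ∈ diagSpan R R' d := by
  rw [← polarization (PiTensorProduct.tprod R) a]
  refine Submodule.sum_mem _ (fun I _ => ?_)
  refine Submodule.smul_of_tower_mem _ _ ?_
  exact Submodule.subset_span ⟨_, rfl⟩

lemma symmetrize_mem (t : ⨂[R] _ : Fin d, R') :
    ∑ σ : Equiv.Perm (Fin d), PiTensorProduct.reindex R (fun _ : Fin d => R') σ t ∈
      diagSpan R R' d := by
  induction t using PiTensorProduct.induction_on with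
  | smul_tprod r a =>
    have h0 : ∀ σ : Equiv.Perm (Fin d), PiTensorProduct.reindex R (fun _ : Fin d => R') σ
        (r • PiTensorProduct.tprod R a) = r • PiTensorProduct.tprod R (fun k => a (σ.symm k)) := by
      intro σ
      rw [map_smul, PiTensorProduct.reindex_tprod]
    have h1 : ∑ σ : Equiv.Perm (Fin d), PiTensorProduct.reindex R (fun _ : Fin d => R') σ
        (r • PiTensorProduct.tprod R a) =
        ∑ σ : Equiv.Perm (Fin d), r • PiTensorProduct.tprod R (fun k => a (σ.symm k)) :=
      Finset.sum_congr rfl (fun σ _ => h0 σ)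
    refine Eq.mpr (congrArg (fun z => z ∈ diagSpan R R' d) h1) ?_
    rw [← Finset.smul_sum]
    refine Submodule.smul_mem _ _ ?_
    have h : ∑ σ : Equiv.Perm (Fin d), PiTensorProduct.tprod R (fun k => a (σ.symm k)) =
        ∑ σ : Equiv.Perm (Fin d), PiTensorProduct.tprod R (fun k => a (σ k)) :=
      Equiv.sum_comp (Equiv.inv (Equiv.Perm (Fin d)))
        (fun σ : Equiv.Perm (Fin d) => PiTensorProduct.tprod R (fun k => a (σ k)))
    have h2 := symmetrize_tprod_mem (R := R) a
    rw [← h] at h2
    exact h2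
  | add x y hx hy =>
    simp only [map_add, Finset.sum_add_distrib]
    exact Submodule.add_mem _ hx hy

lemma mem_diagSpan_of_symmetric (hfact : IsUnit ((Nat.factorial d : ℕ) : R))
    (t : ⨂[R] _ : Fin d, R')
    (ht : ∀ σ : Equiv.Perm (Fin d), PiTensorProduct.reindex R (fun _ : Fin d => R') σ t = t) :
    t ∈ diagSpan R R' d := by
  have h := symmetrize_mem t
  simp_rw [ht] at h
  rw [Finset.sum_const, Finset.card_univ, Fintype.card_perm, Fintype.card_fin] at h
  obtain ⟨u, hu⟩ := hfact
  have h2 : t = (↑u⁻¹ : R) • (Nat.factorial d • t) := by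
    rw [← Nat.cast_smul_eq_nsmul R, smul_smul, ← hu, Units.inv_mul, one_smul]
  rw [h2]
  exact Submodule.smul_mem _ _ h

lemma diagSpan_le_TS : diagSpan R R' d ≤ Subalgebra.toSubmodule (SymTen.TS R R' d) := by
  unfold diagSpan
  rw [Submodule.span_le]
  rintro _ ⟨r, rfl⟩
  exact (SymTen.tpow R R' d r).2

lemma psiLin_diag (b : Module.Basis (Fin d) R R') (r : R') :
    psiLin b (PiTensorProduct.tprod R (fun _ : Fin d => r)) = Algebra.norm R r := by
  rw [psiLin_apply, PiTensorProduct.tprod_mul_tprod, detFn_tprod, Algebra.norm_apply]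
  have := Module.Basis.det_comp b (Algebra.lmul R R' r) b
  rw [Module.Basis.det_self, mul_one] at this
  rw [← this]
  rfl

theorem existsUnique_norm [Module.Free R R'] [Module.Finite R R']
    (hd : Module.finrank R R' = d) (hfact : IsUnit ((Nat.factorial d : ℕ) : R)) :
    ∃! φ : SymTen.TS R R' d →ₐ[R] R, ∀ r : R', φ (SymTen.tpow R R' d r) = Algebra.norm R r := by
  rcases subsingleton_or_nontrivial R with hR | hR
  · refine ⟨AlgHom.ofLinearMap 0 (Subsingleton.elim _ _) (fun _ _ => Subsingleton.elim _ _),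
      fun r => Subsingleton.elim _ _, fun ψ _ => ?_⟩
    ext t
    exact Subsingleton.elim _ _
  have b : Module.Basis (Fin d) R R' := (Module.finBasis R R').reindex (finCongr hd)
  refine ⟨AlgHom.ofLinearMap (psiLin b ∘ₗ (SymTen.TS R R' d).val.toLinearMap) ?_ ?_, ?_, ?_⟩
  · show psiLin b ((1 : SymTen.TS R R' d) : ⨂[R] _ : Fin d, R') = 1
    rw [OneMemClass.coe_one, psiLin_one]
  · intro x y
    show psiLin b ((x * y : SymTen.TS R R' d) : ⨂[R] _ : Fin d, R') = psiLin b x.1 * psiLin b y.1
    rw [MulMemClass.coe_mul, psiLin_mul b _ _ x.2]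
  · intro r
    show psiLin b (PiTensorProduct.tprod R (fun _ : Fin d => r)) = Algebra.norm R r
    exact psiLin_diag b r
  · intro ψ hψ
    ext t
    show ψ t = psiLin b t.1
    have key : ∀ (x : ⨂[R] _ : Fin d, R') (hx : x ∈ diagSpan R R' d),
        ψ ⟨x, diagSpan_le_TS hx⟩ = psiLin b x := by
      intro x hx
      unfold diagSpan at hx
      induction hx using Submodule.span_induction with
      | mem x hx =>
        obtain ⟨r, rfl⟩ := hx
        rw [psiLin_diag]
        exact hψ r
      | zero =>
        rw [map_zero]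
        exact map_zero ψ
      | add x y hx hy ihx ihy =>
        rw [map_add, ← ihx, ← ihy, ← map_add]
        rfl
      | smul c x hx ihx =>
        rw [map_smul, ← ihx, ← map_smul]
        rfl
    have ht := mem_diagSpan_of_symmetric hfact t.1 t.2
    exact key t.1 ht

end H21.SymTen
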